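import Groth.Agent.SerreSplit.Splitting
import Mathlib.RingTheory.Spectrum.Prime.FreeLocus
import Mathlib.RingTheory.KrullDimension.Basic
import Mathlib.Topology.KrullDimension
import Mathlib.LinearAlgebra.Projection
import Mathlib.RingTheory.Spectrum.Prime.Topology

/-!
# Serre splitting for projective modules of large rank, and Bass cancellation
-/

universe u

open TopologicalSpace Topology Groth.Agent.SerreSplit

namespace Groth.Agent.BassCancel

variable {R : Type u} [CommRing R] {P : Type u} [AddCommGroup P] [Module R P]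

lemma dimGE_of_rank [Module.Finite R P] [Module.Projective R P] {n : ℕ}
    (hrk : ∀ p : PrimeSpectrum R, Module.rankAtStalk (R := R) P p = n) : DimGE R P n := by
  classical
  intro x m s hm
  have : Module.FinitePresentation R P := Module.finitePresentation_of_projective R P
  have : Module.Free (Localization.AtPrime x.asIdeal) (LocalizedModule x.asIdeal.primeCompl P) :=
    Module.free_of_flat_of_isLocalRing
  have hr : Module.finrank (Localization.AtPrime x.asIdeal) (LocalizedModule x.asIdeal.primeCompl P) = n :=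
    hrk ⟨x.asIdeal, x.isMaximal.isPrime⟩
  let b := (Module.finBasis (Localization.AtPrime x.asIdeal) (LocalizedModule x.asIdeal.primeCompl P)).reindex
    (finCongr hr)
  choose mu hmu using fun i : Fin n =>
    IsLocalizedModule.surj x.asIdeal.primeCompl
      (LocalizedModule.mkLinearMap x.asIdeal.primeCompl P) (b i)
  let ψ : Fin n → P →ₗ[R] Localization.AtPrime x.asIdeal := fun j =>
    (b.coord j).restrictScalars R ∘ₗ LocalizedModule.mkLinearMap x.asIdeal.primeCompl P
  obtain ⟨φ, hφ⟩ := exists_det_of_localized x.asIdeal.primeCompl x.asIdeal le_rfl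
    (fun i => (mu i).1) ψ (fun i => (mu i).2) (fun i j => by
      show b.coord j (LocalizedModule.mkLinearMap x.asIdeal.primeCompl P (mu i).1) = _
      rw [← hmu i, Submonoid.smul_def, LinearMap.map_smul_of_tower, Module.Basis.coord_apply,
        Module.Basis.repr_self, Finsupp.single_apply, Algebra.smul_def]
      split_ifs <;> simp)
  exact (indep_of_det φ hφ).U_ne_top s hm

/-- An element is nonzero in the fibre at `x`. -/
def NZ (x : MaximalSpectrum R) (t : P) : Prop := ∃ φ : P →ₗ[R] R, φ t ∉ x.asIdeal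

lemma indep_single_iff {x : MaximalSpectrum R} {t : P} : Indep x.asIdeal ![t] ↔ NZ x t := by
  have := x.isMaximal
  constructor
  · intro h
    by_contra hne
    simp only [NZ, not_exists, not_not] at hne
    exact x.isMaximal.ne_top ((Ideal.eq_top_iff_one _).2
      (h (fun _ => 1) (mem_N.2 fun φ => by simpa using hne φ) 0))
  · rintro ⟨φ, hφ⟩ c hc i
    have h1 := mem_N.1 hc φ
    simp only [Fin.sum_univ_one, Matrix.cons_val_fin_one, map_smul, smul_eq_mul] at h1
    rw [Subsingleton.elim i 0]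
    exact ((x.isMaximal.isPrime).mem_or_mem h1).resolve_right hφ

lemma exists_apply_eq_one {t : P} (h : ∀ x : MaximalSpectrum R, NZ x t) :
    ∃ φ : P →ₗ[R] R, φ t = 1 := by
  have htop : LinearMap.range (LinearMap.applyₗ t : (P →ₗ[R] R) →ₗ[R] R) = (⊤ : Ideal R) := by
    by_contra hne
    obtain ⟨m, hm, hle⟩ := Ideal.exists_le_maximal _ hne
    obtain ⟨φ, hφ⟩ := h ⟨m, hm⟩
    exact hφ (hle ⟨φ, rfl⟩)
  have h1 : (1 : R) ∈ LinearMap.range (LinearMap.applyₗ t : (P →ₗ[R] R) →ₗ[R] R) := by
    rw [htop]; exact Submodule.mem_top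
  exact h1

lemma isClosed_not_nz (t : P) : IsClosed {x : MaximalSpectrum R | ¬ NZ x t} := by
  simpa [Bad, indep_single_iff] using isClosed_bad (R := R) ![t]

variable [IsNoetherianRing R]

instance noetherianSpace_maximalSpectrum : NoetherianSpace (MaximalSpectrum R) :=
  Topology.IsInducing.noetherianSpace
    (i := MaximalSpectrum.toPrimeSpectrum) (⟨rfl⟩ : Topology.IsInducing (MaximalSpectrum.toPrimeSpectrum (R := R)))

lemma eq_empty_of_coheight {d : ℕ} (hdim : ringKrullDim R ≤ d) {F : Set (MaximalSpectrum R)}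
    (hF : IsClosed F)
    (h : ∀ Z : IrreducibleCloseds (MaximalSpectrum R), (Z : Set _) ⊆ F → ((d + 1 : ℕ) : ℕ∞) ≤ Order.coheight Z) :
    F = ∅ := by
  by_contra hne
  obtain ⟨x, hx⟩ := Set.nonempty_iff_ne_empty.2 hne
  let Z : IrreducibleCloseds (MaximalSpectrum R) :=
    ⟨closure {x}, isIrreducible_singleton.closure, isClosed_closure⟩
  have hdim' : topologicalKrullDim (MaximalSpectrum R) ≤ d := by
    refine (Topology.IsInducing.topologicalKrullDim_le
      (f := MaximalSpectrum.toPrimeSpectrum) ⟨rfl⟩).trans ?_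
    rwa [PrimeSpectrum.topologicalKrullDim_eq_ringKrullDim]
  have h1 := h Z (closure_minimal (Set.singleton_subset_iff.2 hx) hF)
  have h2 := le_trans (WithBot.coe_le_coe.2 h1) (le_trans (Order.coheight_le_krullDim Z) hdim')
  have h3 : ((d + 1 : ℕ) : ℕ∞) ≤ (d : ℕ∞) := WithBot.coe_le_coe.1 h2
  rw [Nat.cast_le] at h3
  omega

/-- A projective module of rank larger than the dimension has a unimodular element. -/
theorem exists_unimodular [Module.Finite R P] [Module.Projective R P] {d n : ℕ}
    (hdim : ringKrullDim R ≤ d) (hnd : d < n)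
    (hrk : ∀ p : PrimeSpectrum R, Module.rankAtStalk (R := R) P p = n) :
    ∃ (t : P) (φ : P →ₗ[R] R), φ t = 1 := by
  obtain ⟨t, F', hF', -, hsub, hco⟩ := exists_general_element (d + 1) (h := 0) (D := n) (by omega)
    (dimGE_of_rank hrk) ![] ∅ isClosed_empty (fun x hx => hx fun c _ i => i.elim0) ∅ (by simp) (fun _ => 0)
  rw [eq_empty_of_coheight hdim hF' hco, Set.union_empty] at hsub
  refine ⟨t, exists_apply_eq_one fun x => indep_single_iff.1 (not_not.1 fun hx => ?_)⟩
  have he : (Fin.snoc (![] : Fin 0 → P) t : Fin 1 → P) = ![t] := by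
    ext i; rw [Fin.fin_one_eq_zero i]; rfl
  exact hsub (show x ∈ Bad (Fin.snoc (![] : Fin 0 → P) t : Fin 1 → P) from he ▸ hx)

/-- Moving a unimodular element of `P ⊕ R` into general position. -/
theorem exists_translate {D : ℕ} (hdim : DimGE R P D) (p : P) (a : R)
    (hw : ∀ x : MaximalSpectrum R, a ∈ x.asIdeal → NZ x p) :
    ∀ k, k ≤ D → ∃ (t : P) (F' : Set (MaximalSpectrum R)), IsClosed F' ∧
      {x | ¬ NZ x (p + a • t)} ⊆ F' ∧
      ∀ Z : IrreducibleCloseds (MaximalSpectrum R), (Z : Set _) ⊆ F' → (k : ℕ∞) ≤ Order.coheight Z := by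
  classical
  intro k
  induction k with
  | zero => exact fun _ => ⟨0, Set.univ, isClosed_univ, Set.subset_univ _, fun Z _ => by simp⟩
  | succ k ih =>
    intro hk
    obtain ⟨t₁, F₁, hF₁, hbad₁, hco₁⟩ := ih (by omega)
    let p₁ := p + a • t₁
    obtain ⟨C₁, hC₁fin, hC₁cl, hC₁irr, hC₁⟩ := NoetherianSpace.exists_finite_set_isClosed_irreducible hF₁
    choose y hy using fun c : {c : Set (MaximalSpectrum R) // c ∈ C₁} => (hC₁irr c.1 c.2).nonempty
    have : Finite {c : Set (MaximalSpectrum R) // c ∈ C₁} := hC₁fin.to_subtype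
    have := Fintype.ofFinite {c : Set (MaximalSpectrum R) // c ∈ C₁}
    let Y : Finset (MaximalSpectrum R) := Finset.univ.image y
    choose w hw' using fun x : MaximalSpectrum R =>
      SetLike.exists_not_mem_of_ne_top (U x.asIdeal (![] : Fin 0 → P)) (hdim x 0 ![] (by omega))
    have hwnz : ∀ x : MaximalSpectrum R, ∃ φ : P →ₗ[R] R, φ (w x) ∉ x.asIdeal := fun x => by
      by_contra hne
      simp only [not_exists, not_not] at hne
      exact hw' x (Submodule.mem_sup_left (mem_N.2 hne))
    obtain ⟨t₂, F₂, hF₂, ht₂, hbad₂, hco₂⟩ := exists_general_element k (show 1 + k ≤ D by omega) hdim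
      ![p₁] F₁ hF₁ (fun x hx => hbad₁ (fun h => hx (indep_single_iff.2 h))) Y
      (fun x hx => by
        obtain ⟨c, -, rfl⟩ := Finset.mem_image.1 hx
        exact hC₁ ▸ ⟨c.1, c.2, hy c⟩) w
    obtain ⟨C₂, hC₂fin, hC₂cl, hC₂irr, hC₂⟩ := NoetherianSpace.exists_finite_set_isClosed_irreducible hF₂
    choose z hzE hzF using fun E : {c : Set (MaximalSpectrum R) // c ∈ C₂ ∧ ¬ c ⊆ F₁} =>
      Set.not_subset.1 E.2.2
    have : Finite {c : Set (MaximalSpectrum R) // c ∈ C₂ ∧ ¬ c ⊆ F₁} :=
      (hC₂fin.subset fun c hc => hc.1).to_subtype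
    have := Fintype.ofFinite {c : Set (MaximalSpectrum R) // c ∈ C₂ ∧ ¬ c ⊆ F₁}
    let Z₂ : Finset (MaximalSpectrum R) := Finset.univ.image z
    obtain ⟨c, hc⟩ := exists_forall_sub_mem (Y ∪ Z₂) (fun x => if x ∈ Y ∧ ¬ NZ x p₁ then 1 else 0)
    have hexp : ∀ (φ : P →ₗ[R] R), φ (p + a • (t₁ + c • t₂)) = φ p₁ + a * (c * φ t₂) := by
      intro φ; simp [p₁, mul_add, add_assoc]
    have hgood : ∀ x ∈ Y ∪ Z₂, NZ x (p + a • (t₁ + c • t₂)) := by
      intro x hx
      have hcx := hc x hx
      by_cases h : x ∈ Y ∧ ¬ NZ x p₁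
      · rw [if_pos h] at hcx
        have ha : a ∉ x.asIdeal := fun ha => by
          obtain ⟨φ, hφ⟩ := hw x ha
          refine h.2 ⟨φ, fun h1 => hφ ?_⟩
          simp only [p₁, map_add, map_smul, smul_eq_mul] at h1
          simpa using x.asIdeal.sub_mem h1 (x.asIdeal.mul_mem_right (φ t₁) ha)
        obtain ⟨φ, hφ⟩ := hwnz x
        refine ⟨φ, fun h1 => ?_⟩
        rw [hexp] at h1
        have h2 : φ p₁ ∈ x.asIdeal := not_not.1 fun hh => h.2 ⟨φ, hh⟩
        have h3 := (x.isMaximal.isPrime.mem_or_mem (by simpa using x.asIdeal.sub_mem h1 h2)).resolve_left ha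
        have h4 : φ t₂ ∈ x.asIdeal := by
          rcases x.isMaximal.isPrime.mem_or_mem h3 with h4 | h4
          · have := x.asIdeal.sub_mem h4 hcx
            simp only [sub_sub_cancel] at this
            exact absurd ((Ideal.eq_top_iff_one _).2 this) x.isMaximal.ne_top
          · exact h4
        have h5 := mem_N.1 (ht₂ x h.1) φ
        rw [map_sub] at h5
        exact hφ (by simpa using x.asIdeal.sub_mem h4 h5)
      · rw [if_neg h, sub_zero] at hcx
        have hp₁ : NZ x p₁ := by
          rcases Finset.mem_union.1 hx with hx' | hx'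
          · exact not_not.1 fun hn => h ⟨hx', hn⟩
          · obtain ⟨E, -, rfl⟩ := Finset.mem_image.1 hx'
            exact not_not.1 fun hn => hzF E (hbad₁ hn)
        obtain ⟨φ, hφ⟩ := hp₁
        refine ⟨φ, fun h1 => hφ ?_⟩
        rw [hexp] at h1
        simpa using x.asIdeal.sub_mem h1 (x.asIdeal.mul_mem_left a (x.asIdeal.mul_mem_right (φ t₂) hcx))
    have hG : {x | ¬ NZ x (p + a • (t₁ + c • t₂))} ⊆ F₁ ∪ F₂ := by
      intro x hx
      by_contra hne
      apply hx
      have hi : Indep x.asIdeal (Fin.snoc ![p₁] t₂ : Fin (1 + 1) → P) := not_not.1 fun h' => hne (hbad₂ h')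
      by_contra hnz
      simp only [NZ, not_exists, not_not, hexp] at hnz
      have h0 := hi ![1, a * c] (mem_N.2 fun φ => by
        simpa [Fin.sum_univ_two, Fin.snoc, mul_assoc] using hnz φ) 0
      exact x.isMaximal.ne_top ((Ideal.eq_top_iff_one _).2 (by simpa using h0))
    obtain ⟨C, hCfin, hCcl, hCirr, hC⟩ := NoetherianSpace.exists_finite_set_isClosed_irreducible
      (isClosed_not_nz (R := R) (p + a • (t₁ + c • t₂)))
    refine ⟨t₁ + c • t₂, _, isClosed_not_nz _, subset_rfl, fun Z hZ => ?_⟩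
    obtain ⟨G, hG₀, hZG⟩ := exists_component hCfin hCcl Z.isIrreducible (hC ▸ hZ)
    have hGsub : G ⊆ {x | ¬ NZ x (p + a • (t₁ + c • t₂))} := fun x hx => hC ▸ ⟨G, hG₀, hx⟩
    let G' : IrreducibleCloseds (MaximalSpectrum R) := ⟨G, hCirr G hG₀, hCcl G hG₀⟩
    refine le_trans ?_ (Order.coheight_anti (show Z ≤ G' from hZG))
    have key : ∀ (q : IrreducibleCloseds (MaximalSpectrum R)), G' ≤ q →
        (∃ r, r ∈ (q : Set (MaximalSpectrum R)) ∧ NZ r (p + a • (t₁ + c • t₂))) → (k : ℕ∞) ≤ Order.coheight q →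
        ((k + 1 : ℕ) : ℕ∞) ≤ Order.coheight G' := by
      rintro q hle ⟨r, hrq, hr⟩ hk'
      have hlt : G' < q := lt_of_le_of_ne hle fun h' => hGsub (show r ∈ G by
        have : r ∈ (G' : Set (MaximalSpectrum R)) := h' ▸ hrq
        exact this) hr
      push_cast
      exact le_trans (add_le_add hk' le_rfl) (Order.coheight_add_one_le hlt)
    by_cases h1 : G ⊆ F₁
    · obtain ⟨q, hq, hGq⟩ := exists_component hC₁fin hC₁cl (hCirr G hG₀) (hC₁ ▸ h1)
      exact key ⟨q, hC₁irr q hq, hC₁cl q hq⟩ hGq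
        ⟨y ⟨q, hq⟩, hy ⟨q, hq⟩, hgood _ (Finset.mem_union_left _ (Finset.mem_image_of_mem y (Finset.mem_univ _)))⟩
        (hco₁ _ fun x hx => hC₁ ▸ ⟨q, hq, hx⟩)
    · have h2' : G ⊆ F₂ := (isPreirreducible_iff_isClosed_union_isClosed.1 (hCirr G hG₀).isPreirreducible
        F₁ F₂ hF₁ hF₂ (hGsub.trans hG)).resolve_left h1
      obtain ⟨q, hq, hGq⟩ := exists_component hC₂fin hC₂cl (hCirr G hG₀) (hC₂ ▸ h2')
      have hqF : ¬ q ⊆ F₁ := fun h' => h1 (hGq.trans h')
      exact key ⟨q, hC₂irr q hq, hC₂cl q hq⟩ hGq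
        ⟨z ⟨q, hq, hqF⟩, hzE ⟨q, hq, hqF⟩,
          hgood _ (Finset.mem_union_right _ (Finset.mem_image_of_mem z (Finset.mem_univ _)))⟩
        (hco₂ _ fun x hx => hC₂ ▸ ⟨q, hq, hx⟩)

/-- **Bass cancellation**, one free summand. -/
theorem cancel_one [Module.Finite R P] [Module.Projective R P] {P' : Type u} [AddCommGroup P'] [Module R P']
    {d n : ℕ} (hdim : ringKrullDim R ≤ d) (hnd : d < n)
    (hrk : ∀ q : PrimeSpectrum R, Module.rankAtStalk (R := R) P q = n)
    (e : (P' × R) ≃ₗ[R] (P × R)) : Nonempty (P' ≃ₗ[R] P) := by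
  let w := e (0, 1)
  have hw : ∀ x : MaximalSpectrum R, w.2 ∈ x.asIdeal → NZ x w.1 := by
    intro x ha
    let f : P × R →ₗ[R] R := (LinearMap.snd R P' R) ∘ₗ e.symm.toLinearMap
    refine ⟨f ∘ₗ LinearMap.inl R P R, fun h1 => x.isMaximal.ne_top ((Ideal.eq_top_iff_one _).2 ?_)⟩
    have h2 : f w = 1 := by simp [f, w]
    have h3 : f w = f (w.1, 0) + w.2 * f (0, 1) := by
      rw [← smul_eq_mul, ← map_smul, ← map_add]; congr 1; ext <;> simp
    rw [← h2, h3]
    exact add_mem h1 (x.asIdeal.mul_mem_right _ ha)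
  obtain ⟨t, F', hF', hsub, hco⟩ := exists_translate (dimGE_of_rank hrk) w.1 w.2 hw (d + 1) (by omega)
  rw [eq_empty_of_coheight hdim hF' hco] at hsub
  obtain ⟨ψ, hψ⟩ := exists_apply_eq_one (t := w.1 + w.2 • t) fun x => not_not.1 fun h => hsub h
  let u := w.1 + w.2 • t
  let e₁ : (P × R) ≃ₗ[R] (P × R) := LinearEquiv.ofLinear
    { toFun := fun z => (z.1 + z.2 • t, z.2)
      map_add' := fun z z' => by ext <;> simp [add_smul]; abel
      map_smul' := fun r z => by ext <;> simp [mul_smul] }
    { toFun := fun z => (z.1 - z.2 • t, z.2)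
      map_add' := fun z z' => by ext <;> simp [add_smul]; abel
      map_smul' := fun r z => by ext <;> simp [mul_smul, smul_sub] }
    (by ext <;> simp) (by ext <;> simp)
  let e₂ : (P × R) ≃ₗ[R] (P × R) := LinearEquiv.ofLinear
    { toFun := fun z => (z.1, z.2 + (1 - w.2) * ψ z.1)
      map_add' := fun z z' => by ext <;> simp [mul_add]; abel
      map_smul' := fun r z => by ext <;> simp [mul_add, mul_left_comm] }
    { toFun := fun z => (z.1, z.2 - (1 - w.2) * ψ z.1)
      map_add' := fun z z' => by ext <;> simp [mul_add]; abel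
      map_smul' := fun r z => by ext <;> simp [mul_sub, mul_left_comm] }
    (by ext <;> simp) (by ext <;> simp)
  let e₃ : (P × R) ≃ₗ[R] (P × R) := LinearEquiv.ofLinear
    { toFun := fun z => (z.1 - z.2 • u, z.2)
      map_add' := fun z z' => by ext <;> simp [add_smul]; abel
      map_smul' := fun r z => by ext <;> simp [mul_smul, smul_sub] }
    { toFun := fun z => (z.1 + z.2 • u, z.2)
      map_add' := fun z z' => by ext <;> simp [add_smul]; abel
      map_smul' := fun r z => by ext <;> simp [mul_smul] }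
    (by ext <;> simp) (by ext <;> simp)
  let E := ((e.trans e₁).trans e₂).trans e₃
  have hE : E (0, 1) = (0, 1) := by
    have h1 : e₁ w = (u, w.2) := rfl
    have h2 : e₂ (u, w.2) = (u, 1) := by
      show (u, w.2 + (1 - w.2) * ψ u) = _
      rw [hψ, mul_one, add_sub_cancel]
    have h3 : e₃ (u, 1) = (0, 1) := by
      show (u - (1 : R) • u, (1 : R)) = _
      rw [one_smul, sub_self]
    simp only [E, LinearEquiv.trans_apply, show e (0, 1) = w from rfl, h1, h2, h3]
  refine ⟨LinearEquiv.ofBijective (LinearMap.fst R P R ∘ₗ E.toLinearMap ∘ₗ LinearMap.inl R P' R) ⟨?_, ?_⟩⟩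
  · refine (injective_iff_map_eq_zero _).2 fun q hq => ?_
    have hq' : (E (q, 0)).1 = 0 := hq
    have h1 : E (q, 0) = E (0, (E (q, 0)).2) := by
      rw [show ((0 : P'), (E (q, 0)).2) = (E (q, 0)).2 • ((0 : P'), (1 : R)) by simp, map_smul, hE]
      ext <;> simp [hq']
    exact congrArg Prod.fst (E.injective h1)
  · intro q
    refine ⟨(E.symm (q, 0)).1, ?_⟩
    have h0 : ((E.symm (q, 0)).1, (0 : R)) = E.symm (q, 0) - (E.symm (q, 0)).2 • ((0 : P'), (1 : R)) := by
      ext <;> simp
    show (E ((E.symm (q, 0)).1, 0)).1 = q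
    rw [h0, map_sub, map_smul, E.apply_symm_apply, hE]
    simp

/-- `R ⊕ Rᵐ = Rᵐ⁺¹`. -/
def prodPiEquiv (m : ℕ) : (R × (Fin m → R)) ≃ₗ[R] (Fin (m + 1) → R) where
  toFun p := Fin.cons p.1 p.2
  invFun v := (v 0, Fin.tail v)
  left_inv p := by simp
  right_inv v := by simp
  map_add' p q := by ext i; induction i using Fin.cases <;> simp
  map_smul' r p := by ext i; induction i using Fin.cases <;> simp

/-- **Bass cancellation.** -/
theorem cancel [Module.Finite R P] [Module.Projective R P] {P' : Type u} [AddCommGroup P'] [Module R P']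
    {d n : ℕ} (hdim : ringKrullDim R ≤ d) (hnd : d < n)
    (hrk : ∀ q : PrimeSpectrum R, Module.rankAtStalk (R := R) P q = n)
    (m : ℕ) (e : (P' × (Fin m → R)) ≃ₗ[R] (P × (Fin m → R))) : Nonempty (P' ≃ₗ[R] P) := by
  rcases subsingleton_or_nontrivial R with h | h
  · have := Module.subsingleton R P
    have := Module.subsingleton R P'
    exact ⟨LinearEquiv.ofSubsingleton P' P⟩
  induction m with
  | zero =>
    exact ⟨((LinearEquiv.prodUnique (R := R) (M := P') (M₂ := Fin 0 → R)).symm.trans e).trans LinearEquiv.prodUnique⟩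
  | succ m ih =>
    let a : ∀ (Q : Type u) [AddCommGroup Q] [Module R Q],
        (Q × (Fin (m + 1) → R)) ≃ₗ[R] ((Q × (Fin m → R)) × R) := fun Q _ _ =>
      (((LinearEquiv.refl R Q).prodCongr ((prodPiEquiv (R := R) m).symm.trans
        (LinearEquiv.prodComm R R (Fin m → R)))).trans (LinearEquiv.prodAssoc R Q (Fin m → R) R).symm)
    have hrk' : ∀ q : PrimeSpectrum R, Module.rankAtStalk (R := R) (P × (Fin m → R)) q = n + m := fun q => by
      rw [Module.rankAtStalk_prod, Pi.add_apply, hrk, Module.rankAtStalk_eq_finrank_of_free]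
      simp
    obtain ⟨e'⟩ := cancel_one hdim (by omega : d < n + m) hrk' (((a P').symm.trans e).trans (a P))
    exact ih e'

/-- Splitting off free summands. -/
theorem exists_prod_free {d : ℕ} (hdim : ringKrullDim R ≤ d) : ∀ (j n : ℕ) (P : Type u) [AddCommGroup P]
    [Module R P] [Module.Finite R P] [Module.Projective R P],
    (∀ q : PrimeSpectrum R, Module.rankAtStalk (R := R) P q = n) → d + j ≤ n →
    ∃ (P₀ : Type u) (_ : AddCommGroup P₀) (_ : Module R P₀), Nonempty (P ≃ₗ[R] P₀ × (Fin j → R)) := by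
  intro j
  induction j with
  | zero => exact fun n P _ _ _ _ _ _ => ⟨P, inferInstance, inferInstance, ⟨LinearEquiv.prodUnique.symm⟩⟩
  | succ j ih =>
    intro n P _ _ _ _ hrk hle
    obtain ⟨t, φ, hφ⟩ := exists_unimodular hdim (by omega : d < n) hrk
    let K := LinearMap.ker φ
    let e : P ≃ₗ[R] K × R :=
      { toFun := fun q => (⟨q - φ q • t, by simp [K, hφ]⟩, φ q)
        invFun := fun z => (z.1 : P) + z.2 • t
        map_add' := fun q q' => by
          ext
          · simp [add_smul]; abel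
          · simp
        map_smul' := fun r q => by
          ext
          · simp [mul_smul, smul_sub]
          · simp
        left_inv := fun q => by simp
        right_inv := fun z => by
          have hz : φ (z.1 : P) = 0 := z.1.2
          ext
          · simp [hz, hφ]
          · simp [hz, hφ] }
    have : Module.Finite R K := Module.Finite.of_surjective ((LinearMap.fst R K R) ∘ₗ e.toLinearMap)
      (fun k => ⟨e.symm (k, 0), by simp⟩)
    have : Module.Projective R K := Module.Projective.of_split K.subtype ((LinearMap.fst R K R) ∘ₗ e.toLinearMap)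
      (by
        refine LinearMap.ext fun k => Subtype.ext ?_
        have hk : φ (k : P) = 0 := k.2
        show (k : P) - φ (k : P) • t = _
        simp [hk])
    obtain ⟨P₀, i1, i2, ⟨e'⟩⟩ := ih (n - 1) K (fun q => by
      have h1 := congrFun (Module.rankAtStalk_eq_of_equiv e) q
      rw [hrk, Module.rankAtStalk_prod, Pi.add_apply] at h1
      rcases subsingleton_or_nontrivial R with h | h
      · exact isEmptyElim q
      · rw [Module.rankAtStalk_eq_finrank_of_free (M := R)] at h1
        simp at h1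
        omega) (by omega)
    exact ⟨P₀, i1, i2, ⟨(e.trans (e'.prodCongr (LinearEquiv.refl R R))).trans
      ((LinearEquiv.prodAssoc R P₀ (Fin j → R) R).trans ((LinearEquiv.refl R P₀).prodCongr
        ((LinearEquiv.prodComm R (Fin j → R) R).trans (prodPiEquiv (R := R) j))))⟩⟩

end Groth.Agent.BassCancel
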